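import Cfsg.Agent.Lib.PG.Net

set_option autoImplicit false

/-! # Certified coset enumeration for groups generated by involutions

Facts `(a, y, b)` mean `K f(a) γ_y = K f(b)`; they are packed as `a + 2^16 * (b + 2^16 * y)` in pages
of a binary tree.  The letter `0` is the identity; words are numbers in base `16`. -/

namespace Cfsg.Agent.TCI

open Cfsg.Agent.PG

/-- pages of facts -/
inductive Tr where
  | leaf : ℕ → Tr
  | node : ℕ → Tr → Tr → Tr

/-- look up entry `i` -/
noncomputable def Tr.get (t : Tr) (i : ℕ) : ℕ :=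
  Tr.rec (motive := fun _ => ℕ)
    (fun p => Nat.mod (Nat.shiftRight p (Nat.mul 36 (Nat.mod i 128))) 68719476736)
    (fun k _ _ l r => Bool.rec l r (Nat.ble k i)) t

/-- source coset -/
def fa (e : ℕ) : ℕ := Nat.mod e 65536
/-- target coset -/
def fb (e : ℕ) : ℕ := Nat.mod (Nat.shiftRight e 16) 65536
/-- letter -/
def fy (e : ℕ) : ℕ := Nat.shiftRight e 32

theorem fy_lt (t : Tr) (i : ℕ) : fy (t.get i) < 16 := by
  have : t.get i < 68719476736 := by
    induction t with
    | leaf p => exact Nat.mod_lt _ (by norm_num)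
    | node k l r h1 h2 =>
      change (Bool.rec (l.get i) (r.get i) (Nat.ble k i) : ℕ) < _
      cases Nat.ble k i
      exacts [h1, h2]
  change t.get i >>> 32 < 16
  rw [Nat.shiftRight_eq_div_pow]
  omega

variable {Γ : Type*} [Group Γ]

/-- value of a word -/
def ev (γ : ℕ → Γ) (w : ℕ) : Γ := ((Nat.digits 16 w).reverse.map γ).prod

/-- append a letter -/
noncomputable def app (w y : ℕ) : ℕ := iteB (Nat.beq y 0) w (Nat.add (Nat.mul w 16) y)

theorem ev_step {γ : ℕ → Γ} (h0 : γ 0 = 1) (w : ℕ) {y : ℕ} (hy : y < 16) :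
    ev γ (w * 16 + y) = ev γ w * γ y := by
  by_cases h : y ≠ 0 ∨ w ≠ 0
  · rw [ev, add_comm, mul_comm, Nat.digits_add 16 (by norm_num) y w hy h]
    simp [ev]
  · push Not at h
    simp [h.1, h.2, h0]

theorem ev_app {γ : ℕ → Γ} (h0 : γ 0 = 1) (w : ℕ) {y : ℕ} (hy : y < 16) :
    ev γ (app w y) = ev γ w * γ y := by
  unfold app
  cases h : Nat.beq y 0
  · exact ev_step h0 w hy
  · rw [Nat.eq_of_beq_eq_true h, h0, mul_one]; rfl

/-- table of the short relators -/
def tbE (tb k : ℕ) : ℕ := Nat.mod (Nat.shiftRight tb (Nat.mul 24 k)) 16777216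

/-- the word is a relator -/
noncomputable def okW (tb : ℕ) (L : List ℕ) (w : ℕ) : Bool :=
  orB (Nat.beq w (tbE tb (Nat.mod w 256))) (L.contains w)

/-- the final test for the fact `e` with number `i` -/
noncomputable def fin1 (tb : ℕ) (L : List ℕ) (sub i e c w : ℕ) : Bool :=
  orB (andB (Nat.beq c (fa e)) (force (app w (fy e)) (okW tb L)))
    (orB (andB (Nat.beq (fb e) i) (Nat.blt (fa e) i))
      (andB (Nat.beq (fa e) 0) (andB (Nat.beq (fb e) 0) (bit sub (fy e)))))

/-- one step of the check of a page of justifications -/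
noncomputable def goS (t : Tr) (tb : ℕ) (L : List ℕ) (sub : ℕ) (k : ℕ → Bool)
    (ih : ℕ → ℕ → ℕ → ℕ → ℕ → Bool) (i e c w s : ℕ) : Bool :=
  force (Nat.mod s 262144) fun d => force (Nat.shiftRight s 18) fun s' =>
    iteB (Nat.beq d 0)
      (andB (fin1 tb L sub i e c w) (force (Nat.succ i) fun i' => iteB (Nat.beq s' 1) (k i')
        (force (t.get i') fun e' => force (fb e') fun c' => ih i' e' c' 0 s')))
      (andB (Nat.ble d i) (force (t.get (Nat.pred d)) fun f => force (app w (fy f)) fun w' =>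
        force (fa f) fun a => force (fb f) fun b => iteB (Nat.beq a c) (ih i e b w' s')
          (andB (Nat.beq b c) (ih i e a w' s'))))

/-- check of a page of justifications -/
noncomputable def go (t : Tr) (tb : ℕ) (L : List ℕ) (sub : ℕ) (k : ℕ → Bool) (fuel : ℕ) :
    ℕ → ℕ → ℕ → ℕ → ℕ → Bool :=
  Nat.rec (motive := fun _ => ℕ → ℕ → ℕ → ℕ → ℕ → Bool) (fun _ _ _ _ _ => false)
    (fun _ ih => goS t tb L sub k ih) fuel

/-- check of the facts `i, ..., i' - 1` -/
noncomputable def chunk (t : Tr) (tb : ℕ) (L : List ℕ) (sub i' : ℕ) (Js : List ℕ) : ℕ → Bool :=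
  List.rec (motive := fun _ => ℕ → Bool) (fun i => Nat.beq i i')
    (fun s _ ih i => force (t.get i) fun e => go t tb L sub ih 1000 i e (fb e) 0 s) Js

/-- coset representatives -/
noncomputable def rep (γ : ℕ → Γ) (t : Tr) (b : ℕ) : Γ :=
  if fa (t.get b) < b then rep γ t (fa (t.get b)) * γ (fy (t.get b)) else 1
termination_by b

theorem rep_zero (γ : ℕ → Γ) (t : Tr) : rep γ t 0 = 1 := by
  rw [rep]; simp

/-- the meaning of a fact -/
def Holds (γ : ℕ → Γ) (K : Subgroup Γ) (t : Tr) (i : ℕ) : Prop :=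
  rep γ t (fa (t.get i)) * γ (fy (t.get i)) * (rep γ t (fb (t.get i)))⁻¹ ∈ K

/-- the hypotheses on the group -/
structure Ok (γ : ℕ → Γ) (tb : ℕ) (L : List ℕ) : Prop where
  zero : γ 0 = 1
  inv : ∀ y, (γ y)⁻¹ = γ y
  tb : ∀ k < 256, ev γ (tbE tb k) = 1
  lng : ∀ w ∈ L, ev γ w = 1

variable {γ : ℕ → Γ} {K : Subgroup Γ} {t : Tr} {tb : ℕ} {L : List ℕ} {sub : ℕ}

theorem Holds.symm (o : Ok γ tb L) {i : ℕ} (h : Holds γ K t i) :
    rep γ t (fb (t.get i)) * γ (fy (t.get i)) * (rep γ t (fa (t.get i)))⁻¹ ∈ K := by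
  simpa [mul_assoc, o.inv] using K.inv_mem h

theorem fin1_spec (o : Ok γ tb L) (hs : ∀ y, sub.testBit y = true → γ y ∈ K) {i c w : ℕ}
    (hw : rep γ t (fb (t.get i)) * ev γ w * (rep γ t c)⁻¹ ∈ K)
    (h : fin1 tb L sub i (t.get i) c w = true) : Holds γ K t i := by
  simp only [fin1, okW, orB_eq, andB_eq, force_eq, Bool.or_eq_true, Bool.and_eq_true, Nat.beq_eq,
    Nat.blt_eq, List.contains_iff_mem, bit_eq] at h
  unfold Holds
  rcases h with ⟨rfl, h⟩ | ⟨h1, h2⟩ | ⟨h1, h2, h3⟩
  · have : ev γ (app w (fy (t.get i))) = 1 := by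
      rcases h with h | h
      · rw [h]; exact o.tb _ (Nat.mod_lt _ (by norm_num))
      · exact o.lng _ h
    rw [ev_app o.zero _ (fy_lt t i), mul_eq_one_iff_eq_inv] at this
    simpa [mul_assoc, this] using K.inv_mem hw
  · rw [h1, rep.eq_1 γ t i, if_pos h2, mul_inv_cancel]
    exact K.one_mem
  · rw [h1, h2, rep_zero]
    simpa using hs _ h3

theorem go_spec (o : Ok γ tb L) (hs : ∀ y, sub.testBit y = true → γ y ∈ K) {k : ℕ → Bool}
    {P : Prop} (hk : ∀ i, k i = true → (∀ j < i, Holds γ K t j) → P) (fuel : ℕ) :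
    ∀ i c w s, go t tb L sub k fuel i (t.get i) c w s = true → (∀ j < i, Holds γ K t j) →
      rep γ t (fb (t.get i)) * ev γ w * (rep γ t c)⁻¹ ∈ K → P := by
  induction fuel with
  | zero => intro i c w s h; cases h
  | succ fuel ih =>
    intro i c w s h hi hw
    replace h : goS t tb L sub k (go t tb L sub k fuel) i (t.get i) c w s = true := h
    simp only [goS, force_eq, andB_eq] at h
    cases h1 : Nat.beq (Nat.mod s 262144) 0 <;> rw [h1] at h
    · simp only [iteB_false, Bool.and_eq_true, Nat.ble_eq] at h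
      have hj := hi (Nat.pred (Nat.mod s 262144))
        (lt_of_lt_of_le (Nat.pred_lt (Nat.ne_of_beq_eq_false h1)) h.1)
      have hj' := hj.symm o
      have e := ev_app o.zero w (fy_lt t (Nat.pred (Nat.mod s 262144)))
      replace h := h.2
      generalize Nat.pred (Nat.mod s 262144) = j at h hj hj' e
      cases h2 : Nat.beq (fa (t.get j)) c <;> rw [h2] at h
      · simp only [iteB_false, Bool.and_eq_true, Nat.beq_eq] at h
        refine ih _ _ _ _ h.2 hi ?_
        rw [e]
        rw [h.1] at hj'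
        simpa [mul_assoc] using K.mul_mem hw hj'
      · refine ih _ _ _ _ h hi ?_
        rw [e]
        unfold Holds at hj
        rw [Nat.eq_of_beq_eq_true h2] at hj
        simpa [mul_assoc] using K.mul_mem hw hj
    · simp only [iteB_true, Bool.and_eq_true] at h
      have h3 : ∀ j < i.succ, Holds γ K t j := fun j hj =>
        (Nat.lt_succ_iff_lt_or_eq.1 hj).elim (hi j) fun e => e ▸ fin1_spec o hs hw h.1
      replace h := h.2
      cases h2 : Nat.beq (Nat.shiftRight s 18) 1 <;> rw [h2] at h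
      · exact ih _ _ _ _ h h3 (by simp [ev])
      · exact hk _ h h3

theorem chunk_spec (o : Ok γ tb L) (hs : ∀ y, sub.testBit y = true → γ y ∈ K) {i' : ℕ}
    {Js : List ℕ} {i : ℕ} (h : chunk t tb L sub i' Js i = true) (hi : ∀ j < i, Holds γ K t j) :
    ∀ j < i', Holds γ K t j := by
  induction Js generalizing i with
  | nil => exact Nat.eq_of_beq_eq_true h ▸ hi
  | cons s Js ih =>
    have h' : (force (t.get i) fun e => go t tb L sub (chunk t tb L sub i' Js) 1000 i e (fb e) 0 s)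
      = true := h
    rw [force_eq] at h'
    exact go_spec o hs (fun _ => ih) _ _ _ _ _ h' hi (by simp [ev])

theorem holds_zero : ∀ j < 0, Holds γ K t j := fun _ h => absurd h (Nat.not_lt_zero _)

/-- one entry of the final table -/
noncomputable def rowS (t : Tr) (N n c x : ℕ) (ih : ℕ → Bool) (s : ℕ) : Bool :=
  force (Nat.mod s 262144) fun j => force (t.get j) fun e =>
    force (fa e) fun a => force (fb e) fun b => andB (Nat.blt j N) <| andB (Nat.beq (fy e) x) <|
      andB (Nat.blt a n) <| andB (Nat.blt b n) <| andB (orB (Nat.beq a c) (Nat.beq b c)) <|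
        force (Nat.shiftRight s 18) ih

/-- one row of the final table -/
noncomputable def row (t : Tr) (N n c : ℕ) (k : ℕ → Bool) (ls : List ℕ) : ℕ → Bool :=
  List.rec (motive := fun _ => ℕ → Bool) k (fun x _ ih => rowS t N n c x ih) ls

/-- a page of rows -/
noncomputable def rows (t : Tr) (N n : ℕ) (ls : List ℕ) (k : ℕ → Bool) (fuel : ℕ) : ℕ → ℕ → Bool :=
  Nat.rec (motive := fun _ => ℕ → ℕ → Bool) (fun _ _ => false)
    (fun _ ih c s => iteB (Nat.beq s 1) (k c) (row t N n c (force (Nat.succ c) ih) ls s)) fuel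

/-- the rows `c, ..., c' - 1` -/
noncomputable def fin (t : Tr) (N n : ℕ) (ls : List ℕ) (c' : ℕ) (Rs : List ℕ) : ℕ → Bool :=
  List.rec (motive := fun _ => ℕ → Bool) (fun c => Nat.beq c c')
    (fun s _ ih c => rows t N n ls ih 1000 c s) Rs

/-- the row `c` is complete -/
def Row (γ : ℕ → Γ) (K : Subgroup Γ) (t : Tr) (n : ℕ) (ls : List ℕ) (c : ℕ) : Prop :=
  ∀ x ∈ ls, ∃ b < n, rep γ t c * γ x * (rep γ t b)⁻¹ ∈ K

theorem row_spec (o : Ok γ tb L) {N n c : ℕ} (hN : ∀ j < N, Holds γ K t j) {k : ℕ → Bool}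
    {ls : List ℕ} {s : ℕ} (h : row t N n c k ls s = true) :
    Row γ K t n ls c ∧ ∃ s, k s = true := by
  induction ls generalizing s with
  | nil => exact ⟨fun _ h => (nomatch h), s, h⟩
  | cons x ls ih =>
    replace h : rowS t N n c x (row t N n c k ls) s = true := h
    simp only [rowS, force_eq, andB_eq, orB_eq, Bool.and_eq_true, Bool.or_eq_true, Nat.blt_eq,
      Nat.beq_eq] at h
    obtain ⟨h1, rfl, h3, h4, h5, h6⟩ := h
    refine ⟨List.forall_mem_cons.2 ⟨?_, (ih h6).1⟩, (ih h6).2⟩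
    rcases h5 with rfl | rfl
    exacts [⟨_, h4, hN _ h1⟩, ⟨_, h3, (hN _ h1).symm o⟩]

theorem fin_spec (o : Ok γ tb L) {N n c' : ℕ} (hN : ∀ j < N, Holds γ K t j) {ls Rs : List ℕ}
    {c : ℕ} (h : fin t N n ls c' Rs c = true) (hc : ∀ b < c, Row γ K t n ls b) :
    ∀ b < c', Row γ K t n ls b := by
  induction Rs generalizing c with
  | nil => exact Nat.eq_of_beq_eq_true h ▸ hc
  | cons s Rs ih =>
    have h' : rows t N n ls (fin t N n ls c' Rs) 1000 c s = true := h
    clear h
    generalize 1000 = fuel at h'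
    induction fuel generalizing c s with
    | zero => cases h'
    | succ fuel ih' =>
      replace h' : iteB (Nat.beq s 1) (fin t N n ls c' Rs c) (row t N n c (force (Nat.succ c)
        (rows t N n ls (fin t N n ls c' Rs) fuel)) ls s) = true := h'
      cases h1 : Nat.beq s 1 <;> rw [h1] at h'
      · obtain ⟨h2, s', h3⟩ := row_spec o hN h'
        rw [force_eq] at h3
        exact ih' _ (fun b hb => (Nat.lt_succ_iff_lt_or_eq.1 hb).elim (hc b) fun e => e ▸ h2) h3
      · exact ih h' hc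

theorem row_zero {n : ℕ} {ls : List ℕ} : ∀ b < 0, Row γ K t n ls b :=
  fun _ h => absurd h (Nat.not_lt_zero _)

/-- the subgroup generated by a set of letters -/
def gen (γ : ℕ → Γ) (m : ℕ) : Subgroup Γ := Subgroup.closure (γ '' {y | m.testBit y = true})

theorem mem_gen (γ : ℕ → Γ) (m : ℕ) : ∀ y, m.testBit y = true → γ y ∈ gen γ m :=
  fun y h => Subgroup.subset_closure ⟨y, h, rfl⟩

/-- finite of order at most `a` -/
def Le (K : Subgroup Γ) (a : ℕ) : Prop := Finite K ∧ Nat.card K ≤ a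

theorem le_of_rows (o : Ok γ tb L) {n m a : ℕ} {ls : List ℕ} (h0 : 0 < n) (hm : m < 2 ^ 16)
    (hl : ∀ y < 16, m.testBit y = true → y ∈ ls) (h : ∀ b < n, Row γ K t n ls b) (hK : Le K a) :
    Le (gen γ m) (n * a) := by
  have key : ∀ g ∈ gen γ m, ∃ c < n, g * (rep γ t c)⁻¹ ∈ K := by
    intro g hg
    have st : ∀ g, ∀ x ∈ γ '' {y | m.testBit y = true}, (∃ c < n, g * (rep γ t c)⁻¹ ∈ K) →
        ∃ c < n, g * x * (rep γ t c)⁻¹ ∈ K := by
      rintro g _ ⟨y, hy, rfl⟩ ⟨c, hc, k⟩
      obtain ⟨b, hb, k'⟩ := h c hc y (hl y (by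
        by_contra t
        rw [Set.mem_ofPred_eq, Nat.testBit_lt_two_pow
          (hm.trans_le (Nat.pow_le_pow_right two_pos (not_lt.1 t)))] at hy
        cases hy) hy)
      exact ⟨b, hb, by simpa [mul_assoc] using K.mul_mem k k'⟩
    induction hg using Subgroup.closure_induction_right with
    | one => exact ⟨0, h0, by simp [rep_zero]⟩
    | mul_right x _ y hy ih => exact st x y hy ih
    | mul_inv_cancel x _ y hy ih =>
      obtain ⟨z, hz, rfl⟩ := hy
      rw [o.inv]
      exact st x _ ⟨z, hz, rfl⟩ ih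
  choose c hc hc' using key
  let φ : gen γ m → Fin n × K := fun g => (⟨c g g.2, hc g g.2⟩, ⟨_, hc' g g.2⟩)
  have hφ : Function.Injective φ := by
    intro g g' e
    have e1 : c g g.2 = c g' g'.2 := congrArg (fun x => (x.1 : ℕ)) e
    have e2 : (g : Γ) * (rep γ t (c g g.2))⁻¹ = g' * (rep γ t (c g' g'.2))⁻¹ :=
      congrArg (fun x => (x.2 : Γ)) e
    rw [e1] at e2
    exact Subtype.ext (mul_right_cancel e2)
  have := hK.1
  refine ⟨Finite.of_injective φ hφ, (Nat.card_le_card_of_injective φ hφ).trans ?_⟩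
  simpa using Nat.mul_le_mul_left n hK.2

end Cfsg.Agent.TCI
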