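import Cfsg.Agent.Lib.PG.Cols

set_option autoImplicit false

/-! # Images of several points at once; products of commuting involutions indexed by bits -/

namespace Cfsg.Agent.TCI

open Cfsg.Agent.PG Equiv

/-- the bitmap of the points `x i`, `i < n`, with bit `j` of `i + 1` set -/
noncomputable def bm (x : ℕ → ℕ) (n j : ℕ) : ℕ :=
  Nat.rec (motive := fun _ => ℕ) 0
    (fun i ih => iteB (bit (Nat.succ i) j) (Nat.lor (Nat.shiftLeft 1 (x i)) ih) ih) n

theorem testBit_bm (x : ℕ → ℕ) (n j y : ℕ) :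
    (bm x n j).testBit y = true ↔ ∃ i < n, x i = y ∧ (i + 1).testBit j = true := by
  induction n with
  | zero => simp [bm]
  | succ n ih =>
    have e : bm x (n + 1) j =
      iteB (bit (n + 1) j) (Nat.shiftLeft 1 (x n) ||| bm x n j) (bm x n j) := rfl
    rw [e, bit_eq, Nat.exists_lt_succ_right, ← ih]
    cases h : (n + 1).testBit j
    · simp
    · rw [iteB_true, Nat.testBit_or, Bool.or_eq_true, testBit_shl_one]
      exact ⟨fun h => h.elim (fun h => Or.inr ⟨h.symm, rfl⟩) Or.inl,
        fun h => h.elim Or.inr fun h => Or.inl h.1.symm⟩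

theorem testBit_bm_self {x : ℕ → ℕ} {n : ℕ} (hx : ∀ i < n, ∀ i' < n, x i = x i' → i = i') (j : ℕ)
    {i : ℕ} (hi : i < n) : (bm x n j).testBit (x i) = (i + 1).testBit j := by
  rw [Bool.eq_iff_iff, testBit_bm]
  exact ⟨fun ⟨i', h1, h2, h3⟩ => hx _ h1 _ hi h2 ▸ h3, fun h => ⟨i, hi, rfl, h⟩⟩

/-- the product `l` maps `p i` to `q i` for `i < n` -/
noncomputable def mapsL (A : List Net) (l : List ℕ) (p q : ℕ → ℕ) (n J : ℕ) : Bool :=
  allN J fun j => Nat.beq (papp1 A l (bm q n j)) (bm p n j)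

theorem mapsL_spec {N : ℕ} {A : List Net} (hA : okA N A = true) {l : List ℕ} {p q : ℕ → ℕ}
    {n J : ℕ} (hJ : n < 2 ^ J) (hp : ∀ i < n, ∀ i' < n, p i = p i' → i = i')
    (hq : ∀ i < n, ∀ i' < n, q i = q i' → i = i') (h : mapsL A l p q n J = true) :
    ∀ i < n, pp A l (p i) = q i := by
  intro i hi
  have h1 : ∀ j < J, (bm q n j).testBit (pp A l (p i)) = (i + 1).testBit j := fun j hj => by
    rw [← testBit_papp1 hA, Nat.eq_of_beq_eq_true (allN_spec h j hj), testBit_bm_self hp j hi]
  have h2 : ∀ a < n, ∀ j, J ≤ j → (a + 1).testBit j = false := fun a ha j hj =>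
    Nat.testBit_lt_two_pow (lt_of_le_of_lt ha (hJ.trans_le (Nat.pow_le_pow_right two_pos hj)))
  obtain ⟨j0, hj0⟩ := Nat.exists_testBit_of_ne_zero (Nat.succ_ne_zero i)
  have h3 : j0 < J := by
    by_contra hc
    rw [h2 i hi j0 (not_lt.1 hc)] at hj0
    cases hj0
  obtain ⟨i', hi', e, -⟩ := (testBit_bm _ _ _ _).1 ((h1 j0 h3).trans hj0)
  rw [← e] at h1 ⊢
  congr 1
  apply Nat.succ_injective
  apply Nat.eq_of_testBit_eq
  intro j
  by_cases hj : j < J
  · exact (testBit_bm_self hq j hi').symm.trans (h1 j hj)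
  · exact (h2 i' hi' j (not_lt.1 hj)).trans (h2 i hi j (not_lt.1 hj)).symm

theorem nthD_inj {l : List ℕ} (h : l.Nodup) : ∀ i < l.length, ∀ i' < l.length,
    nthD 0 l i = nthD 0 l i' → i = i' := fun i hi i' hi' e => by
  rw [nthD_eq, nthD_eq, List.getD_eq_getElem _ _ hi, List.getD_eq_getElem _ _ hi'] at e
  exact (List.Nodup.getElem_inj_iff h).1 e

variable {G : Type*} [Group G]

/-- the product of the `e i`, `i < n`, with bit `i` of `x` set -/
def ph (e : ℕ → G) (n x : ℕ) : G := ((List.range n).map fun i => if x.testBit i then e i else 1).prod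

theorem ph_succ (e : ℕ → G) (n x : ℕ) :
    ph e (n + 1) x = ph e n x * if x.testBit n then e n else 1 := by
  simp [ph, List.range_succ]

theorem ph_zero (e : ℕ → G) (n : ℕ) : ph e n 0 = 1 := by simp [ph]

theorem ph_mem {e : ℕ → G} {n : ℕ} {H : Subgroup G} (h : ∀ i < n, e i ∈ H) (x : ℕ) :
    ph e n x ∈ H := by
  induction n with
  | zero => exact H.one_mem
  | succ n ih =>
    rw [ph_succ]
    refine H.mul_mem (ih fun i hi => h i (by omega)) ?_
    split_ifs
    exacts [h n (by omega), H.one_mem]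

theorem ph_xor {e : ℕ → G} {n : ℕ} (hc : ∀ i < n, ∀ j < n, Commute (e i) (e j))
    (hs : ∀ i < n, e i * e i = 1) (x y : ℕ) : ph e n (x ^^^ y) = ph e n x * ph e n y := by
  induction n with
  | zero => simp [ph]
  | succ n ih =>
    have h1 : e n * ph e n y = ph e n y * e n :=
      Subgroup.mem_centralizer_singleton_iff.1 (ph_mem (H := Subgroup.centralizer {e n})
        (fun i hi => Subgroup.mem_centralizer_singleton_iff.2
          (hc i (by omega) n (by omega)).eq) y) |>.symm
    rw [ph_succ, ph_succ, ph_succ, ih (fun i hi j hj => hc i (by omega) j (by omega))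
      fun i hi => hs i (by omega), Nat.testBit_xor]
    cases x.testBit n <;> cases y.testBit n <;> simp [mul_assoc, h1]
    rw [← mul_assoc, h1, mul_assoc, hs n (by omega), mul_one]

theorem ph_two_pow (e : ℕ → G) {n i : ℕ} (h : i < n) : ph e n (2 ^ i) = e i := by
  have h0 : ∀ m ≤ i, ph e m (2 ^ i) = 1 := fun m hm =>
    List.prod_eq_one fun a ha => by
      obtain ⟨j, hj, rfl⟩ := List.mem_map.1 ha
      rw [List.mem_range] at hj
      rw [Nat.testBit_two_pow_of_ne (by omega)]; rfl
  induction n with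
  | zero => omega
  | succ n ih =>
    rw [ph_succ]
    rcases Nat.lt_succ_iff_lt_or_eq.1 h with h | rfl
    · rw [ih h, Nat.testBit_two_pow_of_ne (by omega)]; simp
    · rw [h0 _ le_rfl, Nat.testBit_two_pow_self]; simp

theorem ph_conj (e : ℕ → G) (g : G) (n x : ℕ) :
    g * ph e n x * g⁻¹ = ph (fun i => g * e i * g⁻¹) n x := by
  induction n with
  | zero => simp [ph]
  | succ n ih =>
    rw [ph_succ, ph_succ, ← ih]
    split_ifs <;> simp [mul_assoc]

/-- the sum of the columns `c i`, `i < n`, with bit `i` of `x` set -/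
def lin (c : ℕ → ℕ) : ℕ → ℕ → ℕ
  | 0, _ => 0
  | n + 1, x => lin c n x ^^^ if x.testBit n then c n else 0

theorem lin_lt {c : ℕ → ℕ} {n m : ℕ} (h : ∀ i < n, c i < 2 ^ m) (x : ℕ) : lin c n x < 2 ^ m := by
  induction n with
  | zero => exact Nat.two_pow_pos m
  | succ n ih =>
    refine Nat.xor_lt_two_pow (ih fun i hi => h i (by omega)) ?_
    split_ifs
    exacts [h n (by omega), Nat.two_pow_pos m]

theorem lin_congr (c : ℕ → ℕ) {n x y : ℕ} (h : ∀ i < n, x.testBit i = y.testBit i) :
    lin c n x = lin c n y := by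
  induction n with
  | zero => rfl
  | succ n ih => rw [lin, lin, ih fun i hi => h i (by omega), h n (by omega)]

theorem ph_lin {e e' : ℕ → G} {m : ℕ} (hc : ∀ i < m, ∀ j < m, Commute (e i) (e j))
    (hs : ∀ i < m, e i * e i = 1) {c : ℕ → ℕ} {n : ℕ} (h : ∀ i < n, e' i = ph e m (c i)) (x : ℕ) :
    ph e' n x = ph e m (lin c n x) := by
  induction n with
  | zero => rw [lin, ph_zero]; rfl
  | succ n ih =>
    rw [ph_succ, lin, ph_xor hc hs, ih fun i hi => h i (by omega)]
    split_ifs
    · rw [h n (by omega)]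
    · rw [ph_zero]

/-- the bitmap of the `x < 2 ^ n` with `lin c n x ^^^ x = t` -/
noncomputable def zf (c : ℕ → ℕ) (n : ℕ) : ℕ → ℕ :=
  Nat.rec (motive := fun _ => ℕ → ℕ) (fun t => iteB (Nat.beq t 0) 1 0)
    (fun n ih t => Nat.lor (ih t) (Nat.shiftLeft
      (force (Nat.xor (Nat.xor t (c n)) (Nat.shiftLeft 1 n)) ih) (Nat.shiftLeft 1 n))) n

theorem testBit_zf (c : ℕ → ℕ) {n x : ℕ} (hx : x < 2 ^ n) :
    (zf c n (lin c n x ^^^ x)).testBit x = true := by
  induction n generalizing x with
  | zero =>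
    obtain rfl : x = 0 := by simpa using hx
    rw [lin, Nat.xor_self]
    exact (by decide : Nat.testBit 1 0 = true)
  | succ n ih =>
    have e : ∀ t, zf c (n + 1) t = zf c n t ||| (force (t ^^^ c n ^^^ 1 <<< n) (zf c n)) <<< (1 <<< n) :=
      fun _ => rfl
    rw [e, force_eq, Nat.one_shiftLeft, Nat.testBit_or, Bool.or_eq_true, lin]
    by_cases h : x < 2 ^ n
    · left
      rw [Nat.testBit_lt_two_pow h]
      simpa using ih h
    · right
      obtain ⟨y, rfl⟩ := Nat.exists_eq_add_of_le (not_lt.1 h)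
      have hy : y < 2 ^ n := by rw [pow_succ] at hx; omega
      have h1 : 2 ^ n + y = 2 ^ n ^^^ y := by
        apply Nat.eq_of_testBit_eq
        intro j
        rw [Nat.testBit_xor, Nat.testBit_two_pow]
        rcases lt_trichotomy j n with h2 | rfl | h2
        · rw [Nat.testBit_two_pow_add_gt h2]; simp [h2.ne']
        · rw [Nat.testBit_two_pow_add_eq]; simp
        · have := Nat.pow_le_pow_right two_pos (Nat.succ_le_of_lt h2)
          rw [Nat.testBit_lt_two_pow (hx.trans_le this), Nat.testBit_lt_two_pow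
            (hy.trans_le (Nat.pow_le_pow_right two_pos h2.le))]
          simp [h2.ne]
      rw [Nat.testBit_shiftLeft, Nat.add_sub_cancel_left, Nat.testBit_two_pow_add_eq,
        Nat.testBit_lt_two_pow hy, lin_congr c (y := y) fun i hi => Nat.testBit_two_pow_add_gt hi y]
      have h3 : (lin c n y ^^^ c n ^^^ (2 ^ n + y)) ^^^ c n ^^^ 2 ^ n = lin c n y ^^^ y := by
        rw [h1]
        apply Nat.eq_of_testBit_eq
        intro j
        simp only [Nat.testBit_xor]
        cases (lin c n y).testBit j <;> cases (c n).testBit j <;> cases y.testBit j <;>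
          cases (2 ^ n).testBit j <;> rfl
      simpa [h3] using ih hy

end Cfsg.Agent.TCI
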