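import Cfsg.Agent.Lib.TCI.Dat
import Cfsg.Agent.Lib.TCI.Pts

set_option autoImplicit false

/-! # Words and tests for the permutation model of `Fi23` -/

namespace Cfsg.Agent.TCI

open Cfsg.Agent.PG

/-- pairs of networks with the order of their product -/
def rp : List (ℕ × ℕ × ℕ) := (List.range 10).flatMap fun b => (List.range (b + 1)).map fun a =>
  (a, b, if a = b then 1 else if (a, b) ∈ [(2, 5), (5, 6), (6, 9), (7, 9), (8, 9), (4, 7), (1, 4),
    (0, 1), (3, 8)] then 3 else 2)

/-- the claims for the short relators -/
noncomputable def rcl : List Claim := rp.map fun q => (powP [gw q.1, gw q.2.1] q.2.2, [])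

/-- the claim for the first long relator -/
noncomputable def rc1 : List Claim := [(powP ([9, 6, 5, 9, 7, 4, 9, 8, 3].map gw) 10, [])]

/-- the claim for the second long relator -/
noncomputable def rc2 : List Claim := [(powP ([2, 5, 6, 9, 7, 4, 8].map gw) 9, [])]

/-- the points of the base -/
noncomputable def pt (i : ℕ) : ℕ := nthD 0 pts i

/-- the words of the transpositions of the base -/
noncomputable def ew (i : ℕ) : List ℕ := [2 * nthD 1 ews i, gw 9, 2 * nthD 1 ews i + 1]

/-- the word of a product of transpositions -/
noncomputable def phw (n x : ℕ) : List ℕ :=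
  Nat.rec (motive := fun _ => List ℕ) [] (fun i ih => ih ++ iteB (bit x i) (ew i) []) n

/-- base of the stabiliser of `0` -/
def bs : List ℕ := [7999, 8000, 8001, 8002, 8003, 8005, 8004, 8006]

/-- the base and its images under the generators -/
def us : List ℕ := [7999, 8000, 8001, 8002, 8003, 8005, 8004, 8006, 6522, 6523, 9592, 6537, 6524,
  6528, 6527, 6525, 6526]

/-- the images of `us` under the central transposition -/
def zs : List ℕ := [1, 8000, 8001, 8002, 8003, 8005, 8004, 8006, 2, 6523, 9592, 6537, 6524,
  6528, 6527, 6525, 6526]

/-- composition of permutations given as lists -/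
noncomputable def cmp (s t : List ℕ) : List ℕ := t.map (nthD 0 s)

/-- value of a word in the permutations `sgs` -/
noncomputable def evL (w : List ℕ) : List ℕ :=
  w.foldr (fun c acc => cmp (nthD [] sgs c) acc) (List.range 23)

/-- the test for the code of the transposition `j` -/
noncomputable def codeB (j : ℕ) : Bool :=
  andB (mapsB A (ew j ++ phw 11 (nthD 0 codes j)) 25 25) (mapsB A (ew j ++ phw 11 (nthD 0 codes j)) 4 4)

end Cfsg.Agent.TCI
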