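import Cfsg.Agent.Lib.TCI.Defs

set_option autoImplicit false
set_option maxRecDepth 100000
set_option Elab.async false
set_option exponentiation.threshold 100000

namespace Cfsg.Agent.TCI
open Cfsg.Agent.PG

theorem rcl_0_0 : chkOn A 15 0 8 (rcl.take 30) = true := by decide +kernel

theorem rcl_0_8 : chkOn A 15 8 7 (rcl.take 30) = true := by decide +kernel

theorem rcl_1_0 : chkOn A 15 0 8 (rcl.drop 30) = true := by decide +kernel

theorem rcl_1_8 : chkOn A 15 8 7 (rcl.drop 30) = true := by decide +kernel

theorem rc1_0 : chkOn A 15 0 8 rc1 = true := by decide +kernel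

theorem rc1_8 : chkOn A 15 8 7 rc1 = true := by decide +kernel

theorem rc2_0 : chkOn A 15 0 8 rc2 = true := by decide +kernel

theorem rc2_8 : chkOn A 15 8 7 rc2 = true := by decide +kernel

end Cfsg.Agent.TCI
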