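import Cfsg.Agent.Lib.TCI.Defs

set_option autoImplicit false
set_option maxRecDepth 100000
set_option Elab.async false
set_option exponentiation.threshold 100000

namespace Cfsg.Agent.TCI
open Cfsg.Agent.PG

theorem orb0 : cardB 12 (orb A (kgens A 0) 10 (Nat.shiftLeft 1 0)) 31671 = true := by decide +kernel

theorem fix0 : invB A (kgens A 1) (Nat.shiftLeft 1 0) = true := by decide +kernel

theorem lbP : lbB A 12 1 lvP.tail [] = true := by decide +kernel

theorem lbC : lbB A 12 1 lvC.tail [] = true := by decide +kernel

theorem wpa : allN 23 (fun i => mapsB A [2 * nthD 1 ews i] 8003 (pt i)) = true := by decide +kernel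

theorem tmap : allN 3 (fun k => mapsL A [2 * nthD 1 tws k] pt
    (fun i => pt (nthD 0 (nthD [] sgs k) i)) 23 5) = true := by decide +kernel

theorem efix : allL [0, 1, 20, 22] (fun r => mapsL A (ew r) pt pt 23 5) = true := by decide +kernel

theorem zmap : mapsL A (ew 22) (nthD 0 us) (nthD 0 zs) 17 5 = true := by decide +kernel

theorem zcom : allN 9 (fun x => allN 8 fun b =>
    force (papp1 A [gw (x + 1) + 1] (Nat.shiftLeft 1 (nthD 0 us b))) fun v =>
    force (papp1 A [gw (x + 1) + 1] (Nat.shiftLeft 1 (nthD 0 zs b))) fun v' =>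
    (List.range 17).any fun k => andB (bit v (nthD 0 us k)) (bit v' (nthD 0 zs k))) = true := by
  decide +kernel

theorem orbV : cardB 12 (orb A ((List.range 11).map ew) 1 (Nat.shiftLeft 1 25)) 1024 = true := by
  decide +kernel

theorem e0q : andB (mapsB A (ew 0) 25 25) (Bool.not (mapsB A (ew 0) 4 4)) = true := by decide +kernel

end Cfsg.Agent.TCI
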