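import Cfsg.Agent.Lib.TCI.Defs

set_option autoImplicit false
set_option maxRecDepth 100000
set_option Elab.async false
set_option exponentiation.threshold 100000

namespace Cfsg.Agent.TCI
open Cfsg.Agent.PG

theorem code0 : allL [11, 12, 13, 14] codeB = true := by decide +kernel

theorem code1 : allL [15, 16, 17] codeB = true := by decide +kernel

theorem code2 : allL [18, 19, 20] codeB = true := by decide +kernel

theorem code3 : allL [21, 22] codeB = true := by decide +kernel

end Cfsg.Agent.TCI
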