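import Cfsg.Agent.Lib.TCI.Defs

set_option autoImplicit false
set_option maxRecDepth 100000
set_option Elab.async false
set_option exponentiation.threshold 100000

namespace Cfsg.Agent.TCI
open Cfsg.Agent.PG

theorem pt_inj : ∀ i < 23, ∀ i' < 23, pt i = pt i' → i = i' :=
  nthD_inj (l := pts) (by decide +kernel)

theorem sg_inj : ∀ k < 3, ∀ i < 23, ∀ i' < 23,
    pt (nthD 0 (nthD [] sgs k) i) = pt (nthD 0 (nthD [] sgs k) i') → i = i' := by decide +kernel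

theorem sg_ok : ∀ s ∈ List.range 23 :: sgs, cmp s s = List.range 23 ∧ ∀ t ∈ LL, cmp s t ∈ LL := by
  decide +kernel

theorem sg_bd : ∀ k < 3, (nthD [] sgs k).length = 23 ∧ nthD [] sgs k ∈ sgs ∧
    ∀ i < 23, nthD 0 (nthD [] sgs k) i < 23 := by decide +kernel

theorem LL_eq : LL = lws.map evL ∧ (∀ w ∈ lws, ∀ c ∈ w, c < 3) ∧ LL.Nodup ∧ LL.length = 128 ∧
    List.range 23 ∈ LL := by decide +kernel

theorem LL_reach : ∀ j < 23, ∃ r ∈ [0, 1, 20, 22], ∃ s ∈ LL, nthD 0 s r = j := by decide +kernel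

theorem LL_inv : ∀ s ∈ LL, cmp s s = List.range 23 → s = List.range 23 ∨ s ∈ IL.map Prod.fst := by
  decide +kernel

theorem IL_fix : ∀ q ∈ IL, zf (fun i => nthD 0 codes (nthD 0 q.1 i)) 11 0 = q.2 ∧ q.2 < 2 ^ 2048 ∧
    popc 8 q.2 ≤ 128 := by decide +kernel

theorem IL_pair : ∀ q ∈ IL, ∀ q' ∈ IL, q.1 = q'.1 ∨ popc 8 (q.2 &&& q'.2) ≤ 64 := by decide +kernel

theorem IL_big : ((IL.map Prod.fst).filter fun s => decide (16 ≤ ((IL.map Prod.fst).filter
    fun t => decide (cmp s t = cmp t s)).length)).length ≤ 15 := by decide +kernel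

theorem codes_ok : (∀ j, nthD 0 codes j < 2 ^ 11) ∧ ∀ j < 11, nthD 0 codes j = 2 ^ j := by
  refine ⟨fun j => ?_, by decide +kernel⟩
  rcases nthD_mem_or 0 codes j with h | h
  · rw [h]; norm_num
  · exact (show ∀ c ∈ codes, c < 2 ^ 11 by decide +kernel) _ h

theorem lvC_pts : ∀ q ∈ lvC.tail, q.1 ∈ pts := by decide +kernel

end Cfsg.Agent.TCI
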