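import Cfsg.Agent.Lib.TCI.C0a
import Cfsg.Agent.Lib.TCI.C0b
import Cfsg.Agent.Lib.TCI.C0c
import Cfsg.Agent.Lib.TCI.C0d
import Cfsg.Agent.Lib.TCI.C0e
import Cfsg.Agent.Lib.TCI.C0f
import Cfsg.Agent.Lib.TCI.C0g

set_option autoImplicit false
set_option maxRecDepth 100000
set_option Elab.async false
set_option exponentiation.threshold 100000

namespace Cfsg.Agent.TCI

theorem l0_le {Γ : Type*} [Group Γ] {γ : ℕ → Γ} (o : Ok γ tb lw) {a : ℕ} (hK : Le (gen γ 2044) a) :
    Le (gen γ 2046) (31671 * a) :=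
  have h : ∀ j < 178533, Holds γ (gen γ 2044) l0_t j := (chunk_spec o (mem_gen γ 2044) l0_c39
    (chunk_spec o (mem_gen γ 2044) l0_c38
    (chunk_spec o (mem_gen γ 2044) l0_c37
    (chunk_spec o (mem_gen γ 2044) l0_c36
    (chunk_spec o (mem_gen γ 2044) l0_c35
    (chunk_spec o (mem_gen γ 2044) l0_c34
    (chunk_spec o (mem_gen γ 2044) l0_c33
    (chunk_spec o (mem_gen γ 2044) l0_c32
    (chunk_spec o (mem_gen γ 2044) l0_c31
    (chunk_spec o (mem_gen γ 2044) l0_c30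
    (chunk_spec o (mem_gen γ 2044) l0_c29
    (chunk_spec o (mem_gen γ 2044) l0_c28
    (chunk_spec o (mem_gen γ 2044) l0_c27
    (chunk_spec o (mem_gen γ 2044) l0_c26
    (chunk_spec o (mem_gen γ 2044) l0_c25
    (chunk_spec o (mem_gen γ 2044) l0_c24
    (chunk_spec o (mem_gen γ 2044) l0_c23
    (chunk_spec o (mem_gen γ 2044) l0_c22
    (chunk_spec o (mem_gen γ 2044) l0_c21
    (chunk_spec o (mem_gen γ 2044) l0_c20
    (chunk_spec o (mem_gen γ 2044) l0_c19
    (chunk_spec o (mem_gen γ 2044) l0_c18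
    (chunk_spec o (mem_gen γ 2044) l0_c17
    (chunk_spec o (mem_gen γ 2044) l0_c16
    (chunk_spec o (mem_gen γ 2044) l0_c15
    (chunk_spec o (mem_gen γ 2044) l0_c14
    (chunk_spec o (mem_gen γ 2044) l0_c13
    (chunk_spec o (mem_gen γ 2044) l0_c12
    (chunk_spec o (mem_gen γ 2044) l0_c11
    (chunk_spec o (mem_gen γ 2044) l0_c10
    (chunk_spec o (mem_gen γ 2044) l0_c9
    (chunk_spec o (mem_gen γ 2044) l0_c8
    (chunk_spec o (mem_gen γ 2044) l0_c7
    (chunk_spec o (mem_gen γ 2044) l0_c6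
    (chunk_spec o (mem_gen γ 2044) l0_c5
    (chunk_spec o (mem_gen γ 2044) l0_c4
    (chunk_spec o (mem_gen γ 2044) l0_c3
    (chunk_spec o (mem_gen γ 2044) l0_c2
    (chunk_spec o (mem_gen γ 2044) l0_c1
    (chunk_spec o (mem_gen γ 2044) l0_c0
    holds_zero))))))))))))))))))))))))))))))))))))))))
  le_of_rows o (ls := [3, 6, 7, 10, 8, 5, 2, 9, 4, 1]) (by norm_num) (by norm_num) (by decide) (fin_spec o h l0_f15
    (fin_spec o h l0_f14
    (fin_spec o h l0_f13
    (fin_spec o h l0_f12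
    (fin_spec o h l0_f11
    (fin_spec o h l0_f10
    (fin_spec o h l0_f9
    (fin_spec o h l0_f8
    (fin_spec o h l0_f7
    (fin_spec o h l0_f6
    (fin_spec o h l0_f5
    (fin_spec o h l0_f4
    (fin_spec o h l0_f3
    (fin_spec o h l0_f2
    (fin_spec o h l0_f1
    (fin_spec o h l0_f0
    row_zero)))))))))))))))) hK

end Cfsg.Agent.TCI
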