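import Cfsg.Agent.Lib.TCI.C1a
import Cfsg.Agent.Lib.TCI.C1b
import Cfsg.Agent.Lib.TCI.C1c
import Cfsg.Agent.Lib.TCI.C1d
import Cfsg.Agent.Lib.TCI.C1e
import Cfsg.Agent.Lib.TCI.C1f

set_option autoImplicit false
set_option maxRecDepth 100000
set_option Elab.async false
set_option exponentiation.threshold 100000

namespace Cfsg.Agent.TCI

theorem l1_le {Γ : Type*} [Group Γ] {γ : ℕ → Γ} (o : Ok γ tb lw) {a : ℕ} (hK : Le (gen γ 2040) a) :
    Le (gen γ 2044) (28160 * a) :=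
  have h : ∀ j < 140882, Holds γ (gen γ 2040) l1_t j := (chunk_spec o (mem_gen γ 2040) l1_c33
    (chunk_spec o (mem_gen γ 2040) l1_c32
    (chunk_spec o (mem_gen γ 2040) l1_c31
    (chunk_spec o (mem_gen γ 2040) l1_c30
    (chunk_spec o (mem_gen γ 2040) l1_c29
    (chunk_spec o (mem_gen γ 2040) l1_c28
    (chunk_spec o (mem_gen γ 2040) l1_c27
    (chunk_spec o (mem_gen γ 2040) l1_c26
    (chunk_spec o (mem_gen γ 2040) l1_c25
    (chunk_spec o (mem_gen γ 2040) l1_c24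
    (chunk_spec o (mem_gen γ 2040) l1_c23
    (chunk_spec o (mem_gen γ 2040) l1_c22
    (chunk_spec o (mem_gen γ 2040) l1_c21
    (chunk_spec o (mem_gen γ 2040) l1_c20
    (chunk_spec o (mem_gen γ 2040) l1_c19
    (chunk_spec o (mem_gen γ 2040) l1_c18
    (chunk_spec o (mem_gen γ 2040) l1_c17
    (chunk_spec o (mem_gen γ 2040) l1_c16
    (chunk_spec o (mem_gen γ 2040) l1_c15
    (chunk_spec o (mem_gen γ 2040) l1_c14
    (chunk_spec o (mem_gen γ 2040) l1_c13
    (chunk_spec o (mem_gen γ 2040) l1_c12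
    (chunk_spec o (mem_gen γ 2040) l1_c11
    (chunk_spec o (mem_gen γ 2040) l1_c10
    (chunk_spec o (mem_gen γ 2040) l1_c9
    (chunk_spec o (mem_gen γ 2040) l1_c8
    (chunk_spec o (mem_gen γ 2040) l1_c7
    (chunk_spec o (mem_gen γ 2040) l1_c6
    (chunk_spec o (mem_gen γ 2040) l1_c5
    (chunk_spec o (mem_gen γ 2040) l1_c4
    (chunk_spec o (mem_gen γ 2040) l1_c3
    (chunk_spec o (mem_gen γ 2040) l1_c2
    (chunk_spec o (mem_gen γ 2040) l1_c1
    (chunk_spec o (mem_gen γ 2040) l1_c0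
    holds_zero))))))))))))))))))))))))))))))))))
  le_of_rows o (ls := [3, 6, 7, 10, 8, 5, 2, 9, 4]) (by norm_num) (by norm_num) (by decide) (fin_spec o h l1_f12
    (fin_spec o h l1_f11
    (fin_spec o h l1_f10
    (fin_spec o h l1_f9
    (fin_spec o h l1_f8
    (fin_spec o h l1_f7
    (fin_spec o h l1_f6
    (fin_spec o h l1_f5
    (fin_spec o h l1_f4
    (fin_spec o h l1_f3
    (fin_spec o h l1_f2
    (fin_spec o h l1_f1
    (fin_spec o h l1_f0
    row_zero))))))))))))) hK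

end Cfsg.Agent.TCI
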