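import Cfsg.Agent.Lib.TCI.Pres
import Cfsg.Agent.Lib.TCI.K0
import Cfsg.Agent.Lib.TCI.K1
import Cfsg.Agent.Lib.TCI.K3

set_option autoImplicit false
set_option maxRecDepth 100000

/-! # The presented group `Fi23` acts faithfully on `31671` points -/

namespace Cfsg.Agent.TCI

open Cfsg.Agent.PG Cfsg.Spor Equiv

theorem pp_gws (l : List ℕ) (h : ∀ j ∈ l, j < 128) : pp A (l.map gw) = (l.map (gp A)).prod := by
  induction l with
  | nil => rfl
  | cons a l ih =>
    rw [List.map_cons, pp_cons, sp_gw A (h a List.mem_cons_self),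
      ih fun j hj => h j (List.mem_cons_of_mem _ hj), List.map_cons, List.prod_cons]

theorem rp_rel : ∀ q ∈ rp, (gp A q.1 * gp A q.2.1) ^ q.2.2 = 1 := by
  intro q hq
  have h : ∀ c ∈ rcl, PG.Holds A c := forall_take_drop 30
    (fun c hc => HoldsOn.holds hA ((chkOn_spec hA rcl_0_0 c hc).append (chkOn_spec hA rcl_0_8 c hc)))
    (fun c hc => HoldsOn.holds hA ((chkOn_spec hA rcl_1_0 c hc).append (chkOn_spec hA rcl_1_8 c hc)))
  have h1 : pp A (powP ([q.1, q.2.1].map gw) q.2.2) = 1 := h _ (List.mem_map.2 ⟨q, hq, rfl⟩)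
  rw [pp_powP, pp_gws _ ((show ∀ q ∈ rp, ∀ j ∈ [q.1, q.2.1], j < 128 by decide) q hq)] at h1
  simpa using h1

theorem rel_gp : ∀ r ∈ coxRelators Fi23.edges ∪ {r | r ∈ Fi23.extra},
    FreeGroup.lift (fun x => gp A (cd x - 1)) r = 1 := by
  rintro r (⟨x, -, y, -, rfl⟩ | h)
  · simp only [map_pow, map_mul, FreeGroup.lift_apply_of]
    have : (cd x - 1, cd y - 1, coxLabel Fi23.edges x y) ∈ rp ∨
        (cd y - 1, cd x - 1, coxLabel Fi23.edges x y) ∈ rp := by cases x <;> cases y <;> decide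
    rcases this with h | h
    · exact rp_rel _ h
    · have h1 := rp_rel _ h
      simp only at h1
      rw [show gp A (cd x - 1) * gp A (cd y - 1) = gp A (cd x - 1) *
        (gp A (cd y - 1) * gp A (cd x - 1)) * (gp A (cd x - 1))⁻¹ by group, conj_pow, h1]
      simp
  · have h1 : pp A (powP _ _) = 1 := HoldsOn.holds hA ((chkOn_spec hA rc1_0 _
      List.mem_cons_self).append (chkOn_spec hA rc1_8 _ List.mem_cons_self))
    have h2 : pp A (powP _ _) = 1 := HoldsOn.holds hA ((chkOn_spec hA rc2_0 _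
      List.mem_cons_self).append (chkOn_spec hA rc2_8 _ List.mem_cons_self))
    rw [pp_powP, pp_gws _ (by decide)] at h1 h2
    simp only [List.map_cons, List.map_nil, List.prod_cons, List.prod_nil, mul_one,
      ← mul_assoc] at h1 h2
    simp only [Fi23.extra, List.mem_cons, List.not_mem_nil, or_false, Set.mem_ofPred_eq] at h
    rcases h with rfl | rfl <;> simp only [map_pow, map_mul, FreeGroup.lift_apply_of, cd]
    exacts [h1, h2]

/-- the permutation representation -/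
noncomputable def piF : Fi23 →* Perm ℕ := PresentedGroup.toGroup rel_gp

theorem piF_range : piF.range = K A 0 := by
  have e : ∀ x, piF (PresentedGroup.of x) = gp A (cd x - 1) := fun x => PresentedGroup.toGroup.of _
  apply le_antisymm
  · rw [MonoidHom.range_eq_map, ← PresentedGroup.closure_range_of, MonoidHom.map_closure,
      Subgroup.closure_le]
    rintro _ ⟨_, ⟨x, rfl⟩, rfl⟩
    rw [e]
    exact gp_mem_K A (Nat.zero_le _)
  · refine K_le fun j _ hj => ⟨PresentedGroup.of (gl (j + 1)), ?_⟩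
    rw [e, (show ∀ j < 10, cd (gl (j + 1)) - 1 = j by decide) j hj]

theorem K1_fix {σ : Perm ℕ} (h : σ ∈ K A 1) : σ 0 = 0 :=
  stabB_shl.1 (K_le_stabB hA (by rw [hlen]; norm_num) fix0 h)

theorem ncard_orb_ge {Q : Subgroup (Perm ℕ)} [Finite Q] {gens : List (List ℕ)}
    (hg : ∀ g ∈ gens, pp A g ∈ Q) {l r b s : ℕ}
    (h : cardB l (orb A gens r (Nat.shiftLeft 1 b)) s = true) :
    s ≤ {i | ∃ σ ∈ Q, σ b = i}.ncard := by
  rw [← cardB_spec h]
  refine Set.ncard_le_ncard (fun i hi => ?_) ?_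
  · obtain ⟨σ, hσ, j, hj, rfl⟩ := reach_orb hA hg _ _ i hi
    rw [testBit_shl_one] at hj
    exact ⟨σ, hσ, by rw [hj]⟩
  · have e : {i | ∃ σ ∈ Q, σ b = i} = Set.range (fun σ : Q => (σ : Perm ℕ) b) := by ext i; simp
    rw [e]; exact Set.finite_range _

theorem orders : Function.Injective piF ∧ Nat.card Fi23 = 4089470473293004800 ∧
    K A 0 ⊓ stabB (Nat.shiftLeft 1 0) = K A 1 ∧ Nat.card (K A 1) = 129123503308800 := by
  have := finite_Fi23
  have := finite_K hA 0
  have : Finite ↥(K A 0 ⊓ stabB (Nat.shiftLeft 1 0)) := finite_of_le (R := K A 0) inf_le_left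
  have h1 : 129123503308800 ≤ Nat.card (K A 1) := KS_nil A 1 ▸ lb_card hA lbP
  have h2 : K A 1 ≤ K A 0 ⊓ stabB (Nat.shiftLeft 1 0) :=
    fun σ h => ⟨K_mono A (by norm_num) h, stabB_shl.2 (K1_fix h)⟩
  have h3 := Subgroup.card_le_of_le h2
  have h4 := ncard_orb_ge (kgens_mem (A := A) (by rw [hlen]; norm_num) 0) orb0
  have h5 := card_eq_orbit_mul (K A 0) 0
  have h6 := card_Fi23_le
  have h7 : Nat.card (K A 0) ≤ Nat.card Fi23 := by
    rw [← piF_range]
    exact Nat.card_le_card_of_surjective _ piF.rangeRestrict_surjective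
  have h8 := Nat.mul_le_mul_right (Nat.card ↥(K A 0 ⊓ stabB (Nat.shiftLeft 1 0))) h4
  refine ⟨?_, by omega, (Subgroup.eq_of_le_of_card_ge h2 (by omega)).symm, by omega⟩
  have h9 : Function.Bijective piF.rangeRestrict :=
    (Nat.bijective_iff_surjective_and_card _).2 ⟨piF.rangeRestrict_surjective, by
      rw [piF_range]; omega⟩
  exact fun a b e => h9.1 (Subtype.ext e)

theorem mem_K1 {σ : Perm ℕ} (h : σ ∈ K A 0) (h0 : σ 0 = 0) : σ ∈ K A 1 :=
  orders.2.2.1 ▸ ⟨h, stabB_shl.2 h0⟩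

/-- the transpositions of the base -/
noncomputable def E (i : ℕ) : Perm ℕ := pp A (ew i)

theorem E_eq (i : ℕ) : E i = wp A (nthD 1 ews i) * gp A 9 * (wp A (nthD 1 ews i))⁻¹ := by
  simp only [E, ew, pp_cons, pp_nil, sp_even, sp_odd, sp_gw A (show 9 < 128 by norm_num), mul_one,
    mul_assoc]

theorem wp_mem0 (w : ℕ) : wp A w ∈ K A 0 := by
  simpa [sp_even] using pp_mem_K_zero A [2 * w]

theorem wp_pa {i : ℕ} (hi : i < 23) : wp A (nthD 1 ews i) 8003 = pt i := by
  simpa [sp_even] using (mapsB_iff hA).1 (allN_spec wpa i hi)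

theorem z_comm {σ : Perm ℕ} (h : σ ∈ K A 1) : Commute σ (E 22) := by
  have hz := mapsL_spec hA (n := 17) (by norm_num) (nthD_inj (l := us) (by decide))
    (nthD_inj (l := zs) (by decide)) zmap
  have hz0 : E 22 0 = 0 := mapsL_spec hA (n := 23) (by norm_num) pt_inj pt_inj
    (allL_spec efix 22 (by decide)) 22 (by norm_num)
  refine Subgroup.mem_centralizer_singleton_iff.1 (K_le (Q := Subgroup.centralizer {E 22})
    (fun j h1 h2 => Subgroup.mem_centralizer_singleton_iff.2 ?_) h)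
  have hj := gp_mem_K A h1
  rw [← inv_mul_eq_one]
  refine lb_fixTriv hA lbP (B := {b | ∃ i < 8, nthD 0 us i = b})
    (by rw [KS_nil, orders.2.2.2]; rfl) (by decide) _ ?_ ?_
  · rw [KS_nil]
    have h3 := K_mono A (Nat.zero_le 1) hj
    have h4 := pp_mem_K_zero A (ew 22)
    refine mem_K1 (mul_mem (inv_mem (mul_mem h3 h4)) (mul_mem h4 h3)) ?_
    rw [Perm.mul_apply, Perm.inv_eq_iff_eq, Perm.mul_apply, Perm.mul_apply, K1_fix hj, hz0,
      K1_fix hj]
  · rintro _ ⟨b, hb, rfl⟩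
    obtain ⟨x, rfl⟩ : ∃ x, j = x + 1 := ⟨j - 1, by omega⟩
    rw [hlen] at h2
    have h3 := allN_spec (allN_spec zcom x (by omega)) b hb
    simp only [force_eq, List.any_eq_true, List.mem_range, andB_eq, Bool.and_eq_true, bit_eq,
      testBit_papp1 hA, testBit_shl_one, pp_cons, pp_nil, mul_one,
      sp_gw_inv A (show x + 1 < 128 by omega), Perm.inv_eq_iff_eq] at h3
    obtain ⟨k, hk, h4, h5⟩ := h3
    rw [Perm.mul_apply, Perm.inv_eq_iff_eq, Perm.mul_apply, Perm.mul_apply, ← h4, E, hz k hk,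
      hz b (by omega), h5]

theorem tau {g : Perm ℕ} (hg : g ∈ K A 0) {i j : ℕ} (hi : i < 23) (hj : j < 23)
    (h : g (pt i) = pt j) : g * E i * g⁻¹ = E j := by
  have h1 : ∀ σ ∈ K A 0, σ 8003 = 8003 → Commute σ (gp A 9) := by
    intro σ hσ e
    have h2 : wp A (nthD 1 ews 22) 8003 = 0 := wp_pa (by norm_num)
    have h3 := z_comm (mem_K1 (mul_mem (mul_mem (wp_mem0 (nthD 1 ews 22)) hσ)
      (inv_mem (wp_mem0 (nthD 1 ews 22)))) (by
        rw [Perm.mul_apply, Perm.mul_apply, Perm.inv_eq_iff_eq.2 h2.symm, e, h2]))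
    rw [E_eq] at h3
    exact (Commute.conj_iff _).1 h3
  have h2 := h1 ((wp A (nthD 1 ews j))⁻¹ * g * wp A (nthD 1 ews i))
    (mul_mem (mul_mem (inv_mem (wp_mem0 _)) hg) (wp_mem0 _)) (by
      rw [Perm.mul_apply, Perm.mul_apply, wp_pa hi, h, Perm.inv_eq_iff_eq, wp_pa hj])
  rw [E_eq, E_eq]
  generalize wp A (nthD 1 ews j) = u at h2 ⊢
  generalize wp A (nthD 1 ews i) = v at h2 ⊢
  calc _ = u * (u⁻¹ * g * v * gp A 9) * (v⁻¹ * g⁻¹) := by group
    _ = _ := by rw [h2.eq]; group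

theorem E_sq (i : ℕ) : E i * E i = 1 := by
  have := rp_rel (9, 9, 1) (by decide)
  simp only [pow_one] at this
  rw [E_eq, conj_mul, this]; simp

end Cfsg.Agent.TCI
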