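import Cfsg.Agent.Lib.TCI.M1
import Cfsg.Agent.Lib.TCI.K2

set_option autoImplicit false
set_option maxRecDepth 100000

/-! # The base group `2^11` and a Sylow `2`-subgroup of `Fi23` -/

namespace Cfsg.Agent.TCI

open Cfsg.Agent.PG Equiv

/-- `g` permutes the base as the list `s` -/
def Rl (g : Perm ℕ) (s : List ℕ) : Prop :=
  s.length = 23 ∧ ∀ i < 23, nthD 0 s i < 23 ∧ g (pt i) = pt (nthD 0 s i)

theorem nthD_cmp (s : List ℕ) {t : List ℕ} {i : ℕ} (hi : i < t.length) :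
    nthD 0 (cmp s t) i = nthD 0 s (nthD 0 t i) := by
  rw [nthD_eq 0 (cmp s t), nthD_eq 0 t, List.getD_eq_getElem _ _ hi,
    List.getD_eq_getElem _ _ (by simpa [cmp] using hi)]
  simp [cmp]

theorem nthD_range {i : ℕ} (hi : i < 23) : nthD 0 (List.range 23) i = i := by
  rw [nthD_eq, List.getD_eq_getElem _ _ (by simpa using hi), List.getElem_range]

theorem Rl.mul {g h : Perm ℕ} {s t : List ℕ} (a : Rl g s) (b : Rl h t) : Rl (g * h) (cmp s t) :=
  ⟨by simp [cmp, b.1], fun i hi => by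
    rw [nthD_cmp s (b.1 ▸ hi), Perm.mul_apply, (b.2 i hi).2]
    exact a.2 _ (b.2 i hi).1⟩

theorem Rl.unique {g : Perm ℕ} {s t : List ℕ} (a : Rl g s) (b : Rl g t) : s = t :=
  List.ext_getElem (a.1.trans b.1.symm) fun i h1 h2 => by
    have hi : i < 23 := a.1 ▸ h1
    have := pt_inj _ (a.2 i hi).1 _ (b.2 i hi).1 ((a.2 i hi).2.symm.trans (b.2 i hi).2)
    rwa [nthD_eq, nthD_eq, List.getD_eq_getElem _ _ h1, List.getD_eq_getElem _ _ h2] at this

theorem Rl.inv {g : Perm ℕ} {s : List ℕ} (a : Rl g s) (h : cmp s s = List.range 23) : Rl g⁻¹ s :=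
  ⟨a.1, fun i hi => ⟨(a.2 i hi).1, by
    rw [Perm.inv_eq_iff_eq, (a.2 _ (a.2 i hi).1).2, ← nthD_cmp s (a.1 ▸ hi), h, nthD_range hi]⟩⟩

/-- the pointwise stabiliser of the base -/
noncomputable def VV : Subgroup (Perm ℕ) := K A 0 ⊓ fixL pts

theorem mem_VV {g : Perm ℕ} : g ∈ VV ↔ g ∈ K A 0 ∧ ∀ i < 23, g (pt i) = pt i :=
  and_congr_right fun _ => ⟨fun h i hi => h _ ((show ∀ i < 23, pt i ∈ pts by decide +kernel) i hi),
    fun h b hb => by
      obtain ⟨i, hi, rfl⟩ := (show ∀ b ∈ pts, ∃ i < 23, pt i = b by decide +kernel) b hb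
      exact h i hi⟩

theorem rl_range {g : Perm ℕ} : Rl g (List.range 23) ↔ ∀ i < 23, g (pt i) = pt i :=
  ⟨fun h i hi => by rw [(h.2 i hi).2, nthD_range hi],
    fun h => ⟨rfl, fun i hi => by rw [nthD_range hi]; exact ⟨hi, h i hi⟩⟩⟩

theorem Rl.div {g h : Perm ℕ} {s : List ℕ} (hg : g ∈ K A 0) (hh : h ∈ K A 0) (a : Rl g s)
    (b : Rl h s) : g⁻¹ * h ∈ VV :=
  mem_VV.2 ⟨mul_mem (inv_mem hg) hh, fun i hi => by
    rw [Perm.mul_apply, Perm.inv_eq_iff_eq, (a.2 i hi).2, (b.2 i hi).2]⟩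

/-- the Sylow subgroup -/
noncomputable def NN : Subgroup (Perm ℕ) :=
  Subgroup.closure {x | x ∈ K A 0 ∧ ∃ s ∈ List.range 23 :: sgs, Rl x s}

theorem NN_le : NN ≤ K A 0 := (Subgroup.closure_le _).2 fun _ h => h.1

theorem VV_le : VV ≤ NN := fun _ h => Subgroup.subset_closure
  ⟨h.1, _, List.mem_cons_self, rl_range.2 (mem_VV.1 h).2⟩

theorem NN_rel {g : Perm ℕ} (hg : g ∈ NN) : ∃ s ∈ LL, Rl g s := by
  induction hg using Subgroup.closure_induction_left with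
  | one => exact ⟨_, LL_eq.2.2.2.2, rl_range.2 fun _ _ => rfl⟩
  | mul_left x hx y _ ih =>
    obtain ⟨-, s, hs, a⟩ := hx
    obtain ⟨t, ht, b⟩ := ih
    exact ⟨_, (sg_ok s hs).2 t ht, a.mul b⟩
  | inv_mul_cancel x hx y _ ih =>
    obtain ⟨-, s, hs, a⟩ := hx
    obtain ⟨t, ht, b⟩ := ih
    exact ⟨_, (sg_ok s hs).2 t ht, (a.inv (sg_ok s hs).1).mul b⟩

theorem LL_real {s : List ℕ} (hs : s ∈ LL) : ∃ g ∈ NN, Rl g s := by
  rw [LL_eq.1] at hs
  obtain ⟨w, hw, rfl⟩ := List.mem_map.1 hs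
  have h := LL_eq.2.1 w hw
  clear hs hw
  induction w with
  | nil => exact ⟨1, one_mem _, rl_range.2 fun _ _ => rfl⟩
  | cons c w ih =>
    obtain ⟨g, hg, a⟩ := ih fun d hd => h d (List.mem_cons_of_mem _ hd)
    have hc := h c List.mem_cons_self
    have b : Rl (pp A [2 * nthD 1 tws c]) (nthD [] sgs c) := ⟨(sg_bd c hc).1, fun i hi =>
      ⟨(sg_bd c hc).2.2 i hi,
        mapsL_spec hA (by norm_num) pt_inj (sg_inj c hc) (allN_spec tmap c hc) i hi⟩⟩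
    exact ⟨_, mul_mem (Subgroup.subset_closure ⟨pp_mem_K_zero A _, _,
      List.mem_cons_of_mem _ (sg_bd c hc).2.1, b⟩) hg, b.mul a⟩

theorem VV_conj {g v : Perm ℕ} (hg : g ∈ NN) (hv : v ∈ VV) : g⁻¹ * v * g ∈ VV := by
  obtain ⟨s, -, a⟩ := NN_rel hg
  refine mem_VV.2 ⟨mul_mem (mul_mem (inv_mem (NN_le hg)) hv.1) (NN_le hg), fun i hi => ?_⟩
  rw [Perm.mul_apply, Perm.mul_apply, Perm.inv_eq_iff_eq, (a.2 i hi).2,
    (mem_VV.1 hv).2 _ (a.2 i hi).1]

theorem E_mem {j : ℕ} (hj : j < 23) : E j ∈ VV := by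
  obtain ⟨r, hr, s, hs, rfl⟩ := LL_reach j hj
  obtain ⟨g, hg, a⟩ := LL_real hs
  have h1 : r < 23 := (show ∀ r ∈ [0, 1, 20, 22], r < 23 by decide) r hr
  rw [← tau (NN_le hg) h1 hj (a.2 r h1).2]
  simpa [E] using VV_conj (inv_mem hg) (mem_VV.2 ⟨pp_mem_K_zero A _,
    mapsL_spec hA (by norm_num) pt_inj pt_inj (allL_spec efix r hr)⟩)

theorem E_comm : ∀ i < 11, ∀ j < 11, Commute (E i) (E j) := fun i hi j hj => by
  have h := E_mem (show i < 23 by omega)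
  exact mul_inv_eq_iff_eq_mul.1 (tau h.1 (by omega) (by omega) ((mem_VV.1 h).2 j (by omega)))

theorem phE_xor (x y : ℕ) : ph E 11 (x ^^^ y) = ph E 11 x * ph E 11 y :=
  ph_xor E_comm (fun i _ => E_sq i) x y

theorem phE_sq (x : ℕ) : ph E 11 x * ph E 11 x = 1 := by rw [← phE_xor, Nat.xor_self, ph_zero]

theorem phE_mem (x : ℕ) : ph E 11 x ∈ VV := ph_mem (fun _ hi => E_mem (by omega)) x

instance finite_VV : Finite VV :=
  have := finite_K hA 0
  finite_of_le (R := K A 0) inf_le_left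

instance finite_NN : Finite NN :=
  have := finite_K hA 0
  finite_of_le NN_le

theorem card_VV_le : Nat.card VV ≤ 2048 := by
  obtain ⟨Q, h1, h2, h3⟩ := lbB_aux hA lbC
  rw [KS_nil] at h1 h2 h3
  rw [orders.2.2.2, show (lvC.tail.map fun q => q.2.2.2).prod = 63048585600 from rfl] at h3
  have := finite_K hA 1
  have : Finite Q := finite_of_le h2
  have h4 : VV ≤ Q := fun σ hσ => h1 σ (mem_K1 hσ.1 (hσ.2 0 (by decide)))
    fun q hq => hσ.2 _ (lvC_pts q hq)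
  have := Subgroup.card_le_of_le h4
  omega

theorem e0_ne : E 0 25 = 25 ∧ E 0 4 ≠ 4 := by
  have h := e0q
  rw [andB_eq, Bool.and_eq_true, Bool.not_eq_true', ← Bool.not_eq_true, mapsB_iff hA,
    mapsB_iff hA] at h
  exact h

theorem stab_card {Q : Subgroup (Perm ℕ)} [Finite Q] (h : ∀ i < 11, E i ∈ Q) :
    1024 * Nat.card ↥(Q ⊓ stabB (Nat.shiftLeft 1 25)) ≤ Nat.card Q := by
  rw [card_eq_orbit_mul Q 25]
  refine Nat.mul_le_mul_right _ (ncard_orb_ge (fun g hg => ?_) orbV)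
  obtain ⟨i, hi, rfl⟩ := List.mem_map.1 hg
  exact h i (List.mem_range.1 hi)

theorem VV_faith {g : Perm ℕ} (hg : g ∈ VV) (h1 : g 25 = 25) (h2 : g 4 = 4) : g = 1 := by
  have h3 := stab_card (Q := VV) fun i hi => E_mem (by omega)
  have h4 := card_VV_le
  have : Finite ↥(VV ⊓ stabB (Nat.shiftLeft 1 25)) := finite_of_le (R := VV) inf_le_left
  by_contra h5
  have h6 : 2 < Nat.card ↥(VV ⊓ stabB (Nat.shiftLeft 1 25)) := by
    have := Fintype.ofFinite ↥(VV ⊓ stabB (Nat.shiftLeft 1 25))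
    rw [Nat.card_eq_fintype_card, Fintype.two_lt_card_iff]
    refine ⟨1, ⟨g, hg, stabB_shl.2 h1⟩, ⟨E 0, E_mem (by norm_num), stabB_shl.2 e0_ne.1⟩,
      fun e => h5 (congrArg Subtype.val e).symm, fun e => e0_ne.2 ?_, fun e => e0_ne.2 ?_⟩
    · rw [show E 0 = 1 from (congrArg Subtype.val e).symm]; rfl
    · rw [show E 0 = g from (congrArg Subtype.val e).symm, h2]
  omega

theorem VV_struct : Nat.card VV = 2048 ∧ (∀ v ∈ VV, ∃ x < 2 ^ 11, ph E 11 x = v) ∧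
    ∀ x < 2 ^ 11, ph E 11 x = 1 → x = 0 := by
  let Q : Subgroup (Perm ℕ) :=
    { carrier := {v | ∃ x < 2 ^ 11, ph E 11 x = v}
      one_mem' := ⟨0, by norm_num, ph_zero _ _⟩
      mul_mem' := by
        rintro _ _ ⟨x, hx, rfl⟩ ⟨y, hy, rfl⟩
        exact ⟨_, Nat.xor_lt_two_pow hx hy, phE_xor x y⟩
      inv_mem' := by
        rintro _ ⟨x, hx, rfl⟩
        exact ⟨x, hx, eq_inv_of_mul_eq_one_left (phE_sq x)⟩ }
  have h1 : Q ≤ VV := by rintro _ ⟨x, -, rfl⟩; exact phE_mem x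
  have : Finite Q := finite_of_le h1
  have hE : ∀ i < 11, E i ∈ Q := fun i hi =>
    ⟨2 ^ i, Nat.pow_lt_pow_right one_lt_two hi, ph_two_pow E hi⟩
  have h2 := stab_card hE
  have : Finite ↥(Q ⊓ stabB (Nat.shiftLeft 1 25)) := finite_of_le (R := Q) inf_le_left
  have h3 : 1 < Nat.card ↥(Q ⊓ stabB (Nat.shiftLeft 1 25)) := by
    rw [Finite.one_lt_card_iff_nontrivial]
    refine ⟨1, ⟨E 0, hE 0 (by norm_num), stabB_shl.2 e0_ne.1⟩, fun e => e0_ne.2 ?_⟩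
    rw [show E 0 = 1 from (congrArg Subtype.val e).symm]; rfl
  have h4 := card_VV_le
  have h5 := Subgroup.card_le_of_le h1
  refine ⟨by omega, fun v hv => (Subgroup.eq_of_le_of_card_ge h1 (by omega)).ge hv, fun x hx e => ?_⟩
  let φ : Fin (2 ^ 11) → Q := fun x => ⟨ph E 11 x, x, x.2, rfl⟩
  have h6 : Function.Bijective φ := (Nat.bijective_iff_surjective_and_card _).2
    ⟨fun ⟨_, x, hx, rfl⟩ => ⟨⟨x, hx⟩, rfl⟩, by rw [Nat.card_fin]; omega⟩
  exact congrArg Fin.val (h6.1 (a₁ := ⟨x, hx⟩) (a₂ := ⟨0, by norm_num⟩)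
    (Subtype.ext (e.trans (ph_zero _ _).symm)))

theorem pp_phw (n x : ℕ) : pp A (phw n x) = ph E n x := by
  induction n with
  | zero => rfl
  | succ n ih =>
    have e : phw (n + 1) x = phw n x ++ iteB (bit x n) (ew n) [] := rfl
    rw [e, pp_append, ih, ph_succ, bit_eq]
    cases x.testBit n <;> rfl

theorem E_code {j : ℕ} (hj : j < 23) : E j = ph E 11 (nthD 0 codes j) := by
  by_cases h : j < 11
  · rw [codes_ok.2 j h, ph_two_pow E h]
  have h1 : codeB j = true := by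
    have : j ∈ [11, 12, 13, 14] ∨ j ∈ [15, 16, 17] ∨ j ∈ [18, 19, 20] ∨ j ∈ [21, 22] := by
      simp only [List.mem_cons, List.not_mem_nil, or_false]; omega
    rcases this with h | h | h | h
    exacts [allL_spec code0 j h, allL_spec code1 j h, allL_spec code2 j h, allL_spec code3 j h]
  rw [codeB, andB_eq, Bool.and_eq_true, mapsB_iff hA, mapsB_iff hA, pp_append, pp_phw] at h1
  rw [eq_inv_of_mul_eq_one_left (VV_faith (mul_mem (E_mem hj) (phE_mem _)) h1.1 h1.2),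
    inv_eq_of_mul_eq_one_left (phE_sq _)]

end Cfsg.Agent.TCI
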