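import Cfsg.Agent.Lib.TCI.M2

set_option autoImplicit false
set_option maxRecDepth 100000
set_option exponentiation.threshold 100000

/-! # Elementary abelian subgroups of the Sylow `2`-subgroup of `Fi23` -/

namespace Cfsg.Agent.TCI

open Cfsg.Agent.PG Equiv

theorem quot_map {B : Subgroup (Perm ℕ)} (hB : B ≤ NN) {S : Finset (List ℕ)}
    (h : ∀ b ∈ B, ∃ s ∈ S, Rl b s) : ∃ f : B ⧸ VV.subgroupOf B → S, Function.Injective f ∧
      (∀ q, Rl (q.out : B) (f q)) ∧
      Nat.card B = Nat.card (B ⧸ VV.subgroupOf B) * Nat.card ↥(VV ⊓ B) := by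
  choose s hs hs' using h
  refine ⟨fun q => ⟨s _ q.out.2, hs _ _⟩, fun q q' e => ?_, fun q => hs' _ _, ?_⟩
  · rw [← q.out_eq', ← q'.out_eq', QuotientGroup.eq]
    have e' : s _ q.out.2 = s _ q'.out.2 := congrArg Subtype.val e
    exact Rl.div (NN_le (hB q.out.2)) (NN_le (hB q'.out.2)) (hs' _ _) (by rw [e']; exact hs' _ _)
  · rw [Subgroup.card_eq_card_quotient_mul_card_subgroup (VV.subgroupOf B),
      ← Nat.card_congr (Subgroup.subgroupOfEquivOfLe (H := VV ⊓ B) inf_le_right).toEquiv,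
      Subgroup.inf_subgroupOf_right]

theorem card_NN : Nat.card NN = 2 ^ 18 := by
  obtain ⟨f, h1, h2, h3⟩ := quot_map le_rfl (S := LL.toFinset) fun b hb => by simpa using NN_rel hb
  have h4 : Function.Surjective f := by
    rintro ⟨s, hs⟩
    obtain ⟨g, hg, a⟩ := LL_real (List.mem_toFinset.1 hs)
    refine ⟨(⟨g, hg⟩ : NN), Subtype.ext ((h2 _).unique ?_)⟩
    obtain ⟨v, hv⟩ := QuotientGroup.mk_out_eq_mul (VV.subgroupOf NN) ⟨g, hg⟩
    rw [hv]
    exact ⟨a.1, fun i hi => ⟨(a.2 i hi).1, by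
      rw [Subgroup.coe_mul, Perm.mul_apply, (mem_VV (g := (v : NN))).1 v.2 |>.2 i hi]
      exact (a.2 i hi).2⟩⟩
  rw [h3, Nat.card_congr (Equiv.ofBijective f ⟨h1, h4⟩), inf_eq_left.2 VV_le, VV_struct.1,
    Nat.card_eq_fintype_card, Fintype.card_coe, List.toFinset_card_of_nodup LL_eq.2.2.1,
    LL_eq.2.2.2.1]
  norm_num

theorem fix_bit {a v : Perm ℕ} (ha : a ∈ K A 0) {q : List ℕ × ℕ} (hq : q ∈ IL) (h : Rl a q.1)
    {x : ℕ} (hx : x < 2 ^ 11) (e : ph E 11 x = v) (hc : a * v = v * a) : q.2.testBit x = true := by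
  have h1 := ph_conj E a 11 x
  rw [ph_lin (e' := fun i => a * E i * a⁻¹) E_comm (fun i _ => E_sq i)
    (c := fun i => nthD 0 codes (nthD 0 q.1 i)) (fun i hi => by
    rw [tau ha (by omega) (h.2 i (by omega)).1 (h.2 i (by omega)).2, E_code (h.2 i (by omega)).1]),
    e, hc, mul_inv_cancel_right] at h1
  have h2 : lin (fun i => nthD 0 codes (nthD 0 q.1 i)) 11 x ^^^ x = 0 :=
    VV_struct.2.2 _ (Nat.xor_lt_two_pow (lin_lt (fun i _ => codes_ok.1 _) x) hx)
      (by rw [phE_xor, ← h1, ← e, phE_sq])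
  have h3 := testBit_zf (fun i => nthD 0 codes (nthD 0 q.1 i)) hx
  rwa [h2, (IL_fix q hq).1] at h3

theorem card_le_popc {W : Subgroup (Perm ℕ)} {F : ℕ} (hF : F < 2 ^ 2048)
    (h : ∀ v ∈ W, ∃ x, F.testBit x = true ∧ ph E 11 x = v) : Nat.card W ≤ popc 8 F := by
  rw [popc_spec 8 F hF, ← ncard_bset (n := 8 * 2 ^ 8) hF]
  exact (Set.ncard_le_ncard (s := (W : Set (Perm ℕ))) h ((bset_finite F).image _)).trans
    (Set.ncard_image_le (bset_finite F))

theorem elab_le {B : Subgroup (Perm ℕ)} (hB : B ≤ NN) (hc : ∀ a ∈ B, ∀ b ∈ B, a * b = b * a)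
    (h2 : ∀ a ∈ B, a * a = 1) : B ≤ VV ∨ Nat.card B ≤ 1024 := by
  classical
  let S := (IL.map Prod.fst).toFinset.filter fun s => ∃ a ∈ B, Rl a s
  have hS : ∀ s, s ∈ S ↔ s ∈ IL.map Prod.fst ∧ ∃ a ∈ B, Rl a s := fun s => by
    rw [Finset.mem_filter, List.mem_toFinset]
  have h3 : ∀ b ∈ B, ∃ s ∈ insert (List.range 23) S, Rl b s := fun b hb => by
    obtain ⟨s, hs, a⟩ := NN_rel (hB hb)
    refine ⟨s, Finset.mem_insert.2 ((LL_inv s hs ((a.mul a).unique ?_)).imp_right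
      fun h => (hS s).2 ⟨h, b, hb, a⟩), a⟩
    rw [h2 b hb]
    exact rl_range.2 fun _ _ => rfl
  obtain ⟨f, h4, -, h5⟩ := quot_map hB h3
  have h6 := Nat.card_le_card_of_injective f h4
  rw [Nat.card_eq_fintype_card (α := ↥(insert _ S)), Fintype.card_coe] at h6
  have h7 := h6.trans (Finset.card_insert_le _ _)
  have h8 : S.card ≤ 15 := by
    by_contra h8
    refine h8 (le_trans ?_ IL_big)
    refine (Finset.card_le_card fun s hs => List.mem_toFinset.2 (List.mem_filter.2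
      ⟨((hS s).1 hs).1, decide_eq_true ((not_le.1 h8).trans_le ?_)⟩)).trans (List.toFinset_card_le _)
    refine (Finset.card_le_card fun t ht => List.mem_toFinset.2 (List.mem_filter.2
      ⟨((hS t).1 ht).1, decide_eq_true ?_⟩)).trans (List.toFinset_card_le _)
    obtain ⟨-, a, ha, a'⟩ := (hS s).1 hs
    obtain ⟨-, b, hb, b'⟩ := (hS t).1 ht
    exact (a'.mul b').unique (hc b hb a ha ▸ b'.mul a')
  have h9 : ∀ q ∈ IL, q.1 ∈ S → ∀ v ∈ VV ⊓ B, ∀ x < 2 ^ 11, ph E 11 x = v → q.2.testBit x = true :=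
    fun q hq hs v hv x hx e => by
      obtain ⟨-, a, ha, a'⟩ := (hS _).1 hs
      exact fix_bit (NN_le (hB ha)) hq a' hx e (hc a ha v hv.2)
  rcases S.eq_empty_or_nonempty with h | ⟨s, hs⟩
  · left
    intro b hb
    obtain ⟨s, hs, a⟩ := h3 b hb
    rw [h, Finset.mem_insert] at hs
    obtain rfl := hs.resolve_right (Finset.notMem_empty _)
    exact mem_VV.2 ⟨NN_le (hB hb), rl_range.1 a⟩
  right
  obtain ⟨q, hq, rfl⟩ := List.mem_map.1 ((hS s).1 hs).1
  by_cases h : S.card ≤ 1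
  · have := (card_le_popc (W := VV ⊓ B) (IL_fix q hq).2.1 fun v hv => by
      obtain ⟨x, hx, e⟩ := VV_struct.2.1 v hv.1
      exact ⟨x, h9 q hq hs v hv x hx e, e⟩).trans (IL_fix q hq).2.2
    exact h5.trans_le ((Nat.mul_le_mul (h7.trans (Nat.succ_le_succ h)) this).trans (by norm_num))
  · obtain ⟨t, ht, hne⟩ := Finset.exists_mem_ne (not_le.1 h) q.1
    obtain ⟨q', hq', rfl⟩ := List.mem_map.1 ((hS t).1 ht).1
    have := (card_le_popc (W := VV ⊓ B) (Nat.and_le_left.trans_lt (IL_fix q hq).2.1) fun v hv => by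
      obtain ⟨x, hx, e⟩ := VV_struct.2.1 v hv.1
      exact ⟨x, by rw [Nat.testBit_and, h9 q hq hs v hv x hx e, h9 q' hq' ht v hv x hx e]; rfl,
        e⟩).trans ((IL_pair q hq q' hq').resolve_left hne.symm)
    exact h5.trans_le ((Nat.mul_le_mul (h7.trans (Nat.succ_le_succ h8)) this).trans (by norm_num))

theorem sylow_model (T : Sylow 2 Cfsg.Spor.Fi23) : ∃ ψ : Cfsg.Spor.Fi23 →* Perm ℕ,
    Function.Injective ψ ∧ NN ≤ ψ.range ∧ (T : Subgroup _) = NN.comap ψ := by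
  have := finite_Fi23
  have : Fact (Nat.Prime 2) := ⟨Nat.prime_two⟩
  have h1 : NN ≤ piF.range := piF_range ▸ NN_le
  have h2 : Nat.card (NN.comap piF) = 2 ^ (Nat.card Cfsg.Spor.Fi23).factorization 2 := by
    rw [← Subgroup.card_map_of_injective orders.1, Subgroup.map_comap_eq_self h1, card_NN,
      orders.2.1, show 4089470473293004800 = 2 ^ 18 * 15600091832325 by norm_num,
      Nat.factorization_mul (by norm_num) (by norm_num), Nat.Prime.factorization_pow Nat.prime_two,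
      Finsupp.add_apply, Finsupp.single_eq_same, Nat.factorization_eq_zero_of_not_dvd (by norm_num)]
  obtain ⟨g, rfl⟩ := MulAction.exists_smul_eq Cfsg.Spor.Fi23 (Sylow.ofCard _ h2) T
  refine ⟨piF.comp (MulAut.conj g).symm.toMonoidHom, orders.1.comp (MulAut.conj g).symm.injective,
    fun σ hσ => ?_, ?_⟩
  · obtain ⟨x, rfl⟩ := h1 hσ
    exact ⟨MulAut.conj g x, congrArg piF ((MulAut.conj g).symm_apply_apply x)⟩
  · ext x
    rw [Sylow.coe_subgroup_smul, Subgroup.mem_pointwise_smul_iff_inv_smul_mem]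
    rfl

end Cfsg.Agent.TCI
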