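import Cfsg.Agent.Lib.TCI.L0
import Cfsg.Agent.Lib.TCI.L1
import Cfsg.Agent.Lib.TCI.L2
import Cfsg.Prelude.Def_Spor_Fi23

set_option autoImplicit false
set_option maxRecDepth 100000
set_option exponentiation.threshold 100000

/-! # The presented group `Fi23` is finite of order at most `4089470473293004800` -/

namespace Cfsg.Agent.TCI

open Cfsg.Spor

/-- the generator with a given code -/
def gl : ℕ → Fi23.Gen
  | 1 => .j | 2 => .g | 3 => .a | 4 => .i | 5 => .f | 6 => .b | 7 => .c | 8 => .e | 9 => .h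
  | _ => .d

/-- the code of a generator -/
def cd : Fi23.Gen → ℕ
  | .j => 1 | .g => 2 | .a => 3 | .i => 4 | .f => 5 | .b => 6 | .c => 7 | .e => 8 | .h => 9
  | .d => 10

theorem gl_cd (x : Fi23.Gen) : gl (cd x) = x := by cases x <;> rfl

theorem cd_bd (x : Fi23.Gen) : 1 ≤ cd x ∧ cd x ≤ 10 := by cases x <;> decide

/-- the letters -/
noncomputable def gam (y : ℕ) : Fi23 := if 1 ≤ y ∧ y ≤ 10 then PresentedGroup.of (gl y) else 1

theorem gam_cd (x : Fi23.Gen) : gam (cd x) = PresentedGroup.of x := by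
  rw [gam, if_pos (cd_bd x), gl_cd]

theorem mem_nodes (x : Fi23.Gen) : x ∈ coxNodes Fi23.edges := by cases x <;> decide

theorem cox_rel (x y : Fi23.Gen) :
    ((PresentedGroup.of x : Fi23) * PresentedGroup.of y) ^ coxLabel Fi23.edges x y = 1 := by
  have := PresentedGroup.one_of_mem (rels := coxRelators Fi23.edges ∪ {r | r ∈ Fi23.extra})
    (Or.inl ⟨x, mem_nodes x, y, mem_nodes y, rfl⟩)
  rwa [map_pow, map_mul] at this

/-- the number of a word -/
def wd (l : List ℕ) : ℕ := l.foldl (fun w y => w * 16 + y) 0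

theorem ev_wd {Γ : Type*} [Group Γ] {γ : ℕ → Γ} (h0 : γ 0 = 1) {l : List ℕ} (hl : ∀ y ∈ l, y < 16) :
    ev γ (wd l) = (l.map γ).prod := by
  induction l using List.reverseRecOn with
  | nil => simp [wd, ev]
  | append_singleton l y ih =>
    have : wd (l ++ [y]) = wd l * 16 + y := by simp [wd]
    rw [this, ev_step h0 _ (hl y (by simp)), ih fun z hz => hl z (by simp [hz])]
    simp

theorem prod_rep {Γ : Type*} [Group Γ] (γ : ℕ → Γ) (l : List ℕ) (n : ℕ) :
    ((List.replicate n l).flatten.map γ).prod = (l.map γ).prod ^ n := by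
  induction n with
  | zero => simp
  | succ n ih => rw [List.replicate_succ, List.flatten_cons, List.map_append, List.prod_append, ih,
      pow_succ']

theorem tb_chk : ∀ k < 256, tbE tb k = 0 ∨ ((1 ≤ k / 16 ∧ k / 16 ≤ 10) ∧ (1 ≤ k % 16 ∧ k % 16 ≤ 10) ∧
    tbE tb k = wd (List.replicate (coxLabel Fi23.edges (gl (k / 16)) (gl (k % 16)))
      [k / 16, k % 16]).flatten) := by decide +kernel

/-- the first long relator -/
def lr1 : List ℕ := (List.replicate 10 [10, 7, 6, 10, 8, 5, 10, 9, 4]).flatten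
/-- the second long relator -/
def lr2 : List ℕ := (List.replicate 9 [3, 6, 7, 10, 8, 5, 9]).flatten

theorem lw_chk : ∀ w ∈ lw, ∃ L ∈ [lr1, lr2], ∃ k < 9,
    w = wd (L.rotate k) ∨ w = wd (L.reverse.rotate k) := by decide +kernel

theorem gam_inv (y : ℕ) : (gam y)⁻¹ = gam y := by
  unfold gam
  split_ifs
  · have := cox_rel (gl y) (gl y)
    rw [coxLabel, if_pos rfl, pow_one] at this
    exact inv_eq_of_mul_eq_one_right this
  · exact inv_one

theorem lr_one : ∀ L ∈ [lr1, lr2], (L.map gam).prod = 1 := by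
  have e : ∀ x, (PresentedGroup.mk (coxRelators Fi23.edges ∪ {r | r ∈ Fi23.extra})
    (FreeGroup.of x) : Fi23) = gam (cd x) := fun x => (gam_cd x).symm
  have h1 := PresentedGroup.one_of_mem (rels := coxRelators Fi23.edges ∪ {r | r ∈ Fi23.extra})
    (Or.inr List.mem_cons_self)
  have h2 := PresentedGroup.one_of_mem (rels := coxRelators Fi23.edges ∪ {r | r ∈ Fi23.extra})
    (Or.inr (List.mem_cons_of_mem _ List.mem_cons_self))
  simp only [map_pow, map_mul, e, cd] at h1 h2
  simp only [List.mem_cons, List.not_mem_nil, or_false, forall_eq_or_imp, forall_eq, lr1, lr2,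
    prod_rep, List.map_cons, List.map_nil, List.prod_cons, List.prod_nil, mul_one, ← mul_assoc]
  exact ⟨h1, h2⟩

theorem ok_gam : Ok gam tb lw := by
  have h0 : gam 0 = 1 := if_neg (by omega)
  refine ⟨h0, gam_inv, fun k hk => ?_, fun w hw => ?_⟩
  · rcases tb_chk k hk with h | ⟨h1, h2, h⟩
    · rw [h]; simp [ev]
    · rw [h, ev_wd h0, prod_rep]
      · simpa [gam, h1, h2] using cox_rel (gl (k / 16)) (gl (k % 16))
      · intro y hy
        simp only [List.mem_flatten, List.mem_replicate] at hy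
        obtain ⟨_, ⟨_, rfl⟩, hy⟩ := hy
        simp only [List.mem_cons, List.not_mem_nil, or_false] at hy
        omega
  · obtain ⟨L, hL, k, -, h⟩ := lw_chk w hw
    have h1 := lr_one L hL
    have h2 : ∀ y ∈ L, y < 16 :=
      (show ∀ L ∈ [lr1, lr2], ∀ y ∈ L, y < 16 by decide +kernel) L hL
    rcases h with rfl | rfl
    · rw [ev_wd h0 (by simpa using h2), List.map_rotate]
      exact List.prod_rotate_eq_one_of_prod_eq_one h1 k
    · rw [ev_wd h0 (by simpa using h2), List.map_rotate]
      apply List.prod_rotate_eq_one_of_prod_eq_one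
      have := List.prod_inv_reverse (L.map gam)
      rw [h1, inv_one, List.map_map] at this
      rw [List.map_reverse, this]
      congr 2
      exact List.map_congr_left fun y _ => (gam_inv y).symm

theorem gen_top : gen gam 2046 = ⊤ := by
  rw [eq_top_iff, ← PresentedGroup.closure_range_of, Subgroup.closure_le]
  rintro _ ⟨x, rfl⟩
  rw [← gam_cd]
  exact mem_gen gam 2046 _ (by cases x <;> decide)

theorem le_top : Le (⊤ : Subgroup Fi23) 4089470473293004800 := by
  have h : Le (gen gam 0) 1 := by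
    have : gen gam 0 = ⊥ := by simp [gen]
    rw [this]
    exact ⟨inferInstance, by simp⟩
  rw [← gen_top]
  exact l0_le ok_gam (l1_le ok_gam (l2_le ok_gam (l3_le ok_gam (l4_le ok_gam (l5_le ok_gam
    (l6_le ok_gam (l7_le ok_gam (l8_le ok_gam (l9_le ok_gam h)))))))))

theorem finite_Fi23 : Finite Fi23 :=
  have := le_top.1
  Finite.of_equiv _ Subgroup.topEquiv.toEquiv

theorem card_Fi23_le : Nat.card Fi23 ≤ 4089470473293004800 := by
  rw [← Subgroup.card_top]; exact le_top.2

end Cfsg.Agent.TCI
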